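import Cfsg.Agent.Lib.ThreeTransp.UniqueClass.Module

/-!
# The offsets of a second lifting are inner

`L a c` says that `c` is the offset between the lifts of `a` in two classes of 3-transpositions of an
extension of `M` by `A`. The sum of the conjugates of an offset under a non-commuting pair is the same
for all pairs, so it is fixed by `A`.
-/

set_option autoImplicit false

namespace CfsgLib.ThreeTransp.UniqueClass

open CfsgLib.ThreeTransp.Basic

variable {A M : Type*} [Group A] [AddCommGroup M] [DistribMulAction A M] {D : Set A}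

/-- The properties of the offsets. -/
structure Offsets (D : Set A) (L : A → M → Prop) : Prop where
  mem : ∀ {a c}, L a c → a ∈ D
  fixed : ∀ {a c}, L a c → a • c = c
  ex : ∀ a ∈ D, ∃ c, L a c
  comm : ∀ {a b c c'}, L a c → L b c' → Commute a b → a • c' + c' = b • c + c
  noncomm : ∀ {a b c c'}, L a c → L b c' → ¬ Commute a b → nrm (a * b) c = nrm (a * b) c'
  equiv : ∀ (g : A) {a c}, L a c → L (g * a * g⁻¹) (g • c)

theorem nrm_sq {x : A} (hx : x * x * x = 1) (m : M) : nrm (x * x) m = nrm x m := by
  rw [nrm, nrm, ← mul_assoc, hx, one_mul]; abel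

theorem smul_nrm (g x : A) (m : M) : g • nrm x m = nrm (g * x * g⁻¹) (g • m) := by
  simp only [nrm, smul_add, ← mul_smul, mul_assoc, inv_mul_cancel_left, inv_mul_cancel, mul_one]

section

variable (hM : ModGood A M) (hD : ModCls A M D) {L : A → M → Prop} (hL : Offsets D L)

include hD

theorem nrm_swap {a b : A} (ha : a ∈ D) (hb : b ∈ D) (h : ¬ Commute a b) (m : M) :
    nrm (b * a) m = nrm (a * b) m := by
  have hi : (a * b)⁻¹ = a * b * (a * b) :=
    inv_eq_of_mul_eq_one_right (by rw [← mul_assoc, cube hD ha hb h])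
  rw [← nrm_sq (cube hD ha hb h), ← hi, mul_inv_rev, inv' hD ha, inv' hD hb]

theorem nrm_fix_both {a b : A} (ha : a ∈ D) (hb : b ∈ D) (h : ¬ Commute a b) (m : M) :
    a • nrm (a * b) m = nrm (a * b) m ∧ b • nrm (a * b) m = nrm (a * b) m := by
  have h1 := nrm_fix (cube hD ha hb h) m
  have h2 := hD.tri a ha b hb h _ h1
  refine ⟨h2, ?_⟩
  calc b • nrm (a * b) m = a • ((a * b) • nrm (a * b) m) := by
        rw [← mul_smul, ← mul_assoc, sq hD ha, one_mul]
    _ = _ := by rw [h1, h2]

include hM hL

theorem fix_other [Finite A] {a b d : A} {c : M} (hc : L a c) (hb : b ∈ D) (hd : d ∈ D)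
    (hab : ¬ Commute a b) (had : ¬ Commute a d) (hbd : Commute b d) :
    b • nrm (a * d) c = nrm (a * d) c := by
  have ha := hL.mem hc
  rcases eq_or_ne b d with rfl | hne
  · exact (nrm_fix_both hD ha hd had c).2
  obtain ⟨cd, hcd⟩ := hL.ex d hd
  obtain ⟨cb, hcb⟩ := hL.ex b hb
  have had' : ¬ Commute d a := fun h => had h.symm
  have hk : nrm (a * d) c = nrm (d * a) cd := by
    rw [hL.noncomm hc hcd had, nrm_swap hD ha hd had]
  have hdec := decomp hM hD hd ha had' (hL.fixed hcd)
  have h1 : b • (d • ((d * a) • cd) + (d * a) • cd) = d • ((d * a) • cd) + (d * a) • cd :=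
    hD.comm d hd b hb hbd.symm _
  rw [hdec, smul_add] at h1
  have h0 : b • cd + cd = 0 :=
    U_inter hM hD hb hd hbd hne (hL.comm hcb hcd hbd)
  have h2 : b • cd = cd := by
    rw [eq_neg_of_add_eq_zero_left h0, neg_eq_of_add_eq_zero_left (hM.two _)]
  rw [h2] at h1
  rw [hk]
  exact add_right_cancel h1

theorem nrm_partner [Finite A] {a b d : A} {c : M} (hc : L a c) (hb : b ∈ D) (hd : d ∈ D)
    (hab : ¬ Commute a b) (had : ¬ Commute a d) : nrm (a * b) c = nrm (a * d) c := by
  have ha := hL.mem hc
  have hbfix : b • nrm (a * d) c = nrm (a * d) c := by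
    by_cases hbd : Commute b d
    · exact fix_other hM hD hL hc hb hd hab had hbd
    by_cases hbd' : Commute (a * b * a) d
    · have hab' : ¬ Commute a (a * b * a) := fun h => hab (by
        have := ((Commute.refl a).mul_right h).mul_right (Commute.refl a)
        rwa [← mul_assoc, ← mul_assoc, sq hD ha, one_mul, mul_assoc, sq hD ha, mul_one] at this)
      have h := fix_other hM hD hL hc (conj_mem hD ha hb) hd hab' had hbd'
      have hf := (nrm_fix_both hD ha hd had c).1
      rw [mul_smul, mul_smul, hf] at h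
      calc b • nrm (a * d) c = a • (a • (b • nrm (a * d) c)) := (smul_smul_self hD ha _).symm
        _ = _ := by rw [h, hf]
    · have hada : ¬ Commute (a * d * a) b := fun h => hbd' (by
        have h' := (Commute.conj_iff a).2 h
        rw [inv' hD ha] at h'
        have e : a * (a * d * a) * a = d := by
          rw [← mul_assoc, ← mul_assoc, sq hD ha, one_mul, mul_assoc, sq hD ha, mul_one]
        rw [e] at h'
        exact h'.symm)
      obtain ⟨x, hx⟩ : ∃ x, x = a * d := ⟨_, rfl⟩
      obtain ⟨y, hy⟩ : ∃ y, y = a * b := ⟨_, rfl⟩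
      obtain ⟨z, hz⟩ : ∃ z, z = x⁻¹ * y⁻¹ * x * y := ⟨_, rfl⟩
      obtain ⟨xz, -, -, az⟩ := triangle hD ha hd hb had hab (fun h => hbd h.symm) hada hx hy hz
      have x3 : x * x * x = 1 := hx ▸ cube hD ha hd had
      have y3 : y * y * y = 1 := hy ▸ cube hD ha hb hab
      obtain ⟨cd, hcd⟩ := hL.ex d hd
      have hzc : L a (z • c) := by
        have := hL.equiv z hc
        rwa [az.symm.eq, mul_inv_cancel_right] at this
      have zk : z • nrm x c = nrm x c := by
        rw [smul_nrm_comm xz.symm.eq, hx, hL.noncomm hzc hcd had, hL.noncomm hc hcd had]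
      have xyk : x • (y • nrm x c) = y • nrm x c := by
        have e : x * y = y * x * z := by rw [hz]; group
        rw [← mul_smul, e, mul_smul, zk, mul_smul, nrm_fix x3]
      have h1 : a • (y • nrm x c) = y • nrm x c :=
        hD.tri a ha d hd had _ (by rwa [← hx])
      have h2 : y • nrm x c = nrm x c := by
        have h3 : a • (y • nrm x c) = y⁻¹ • nrm x c := by
          rw [← mul_smul, hy, swap hD ha hb, mul_smul, hx, (nrm_fix_both hD ha hd had c).1]
        rw [h1] at h3
        have hi : y⁻¹ = y * y := inv_eq_of_mul_eq_one_right (by rw [← mul_assoc, y3])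
        rw [hi, mul_smul] at h3
        exact ((MulAction.injective y) h3).symm
      rw [hy, hx, mul_smul] at h2
      calc b • nrm (a * d) c = a • (a • (b • nrm (a * d) c)) := (smul_smul_self hD ha _).symm
        _ = _ := by rw [h2, (nrm_fix_both hD ha hd had c).1]
  have k1 := decomp hM hD ha hb hab (hL.fixed hc)
  have k2 := decomp hM hD ha hd had (hL.fixed hc)
  have hw : a • ((a * b) • c + (a * d) • c) + ((a * b) • c + (a * d) • c) =
      nrm (a * b) c + nrm (a * d) c := by
    calc _ = (a • ((a * b) • c) + (a * b) • c) + (a • ((a * d) • c) + (a * d) • c) := by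
          rw [smul_add]; abel
      _ = nrm (a * b) c + nrm (a * d) c + (c + c) := by rw [k1, k2]; abel
      _ = _ := by rw [hM.two, add_zero]
  have h0 := U_eq_zero hM hD ha hb hab (m := (a * b) • c + (a * d) • c) (by
    rw [hw, smul_add, hbfix, (nrm_fix_both hD ha hb hab c).2])
  rw [hw] at h0
  rw [eq_neg_of_add_eq_zero_left h0, neg_eq_of_add_eq_zero_left (hM.two _)]

omit hM hD hL in
/-- `k` is the constant attached to `a`. -/
def Kv (D : Set A) (L : A → M → Prop) (a : A) (k : M) : Prop :=
  ∀ c, L a c → ∀ b ∈ D, ¬ Commute a b → nrm (a * b) c = k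

theorem kv_conj {a : A} {k : M} (hk : Kv D L a k) (g : A) : Kv D L (g * a * g⁻¹) (g • k) := by
  intro c hc b hb hab
  have hc' := hL.equiv g⁻¹ hc
  have e : g⁻¹ * (g * a * g⁻¹) * g⁻¹⁻¹ = a := by group
  rw [e] at hc'
  have hb' := hD.grp.2.1 g⁻¹ b hb
  rw [inv_inv] at hb'
  have hab' : ¬ Commute a (g⁻¹ * b * g) := fun h => hab (by
    have h' := (Commute.conj_iff g).2 h
    simpa only [mul_assoc, mul_inv_cancel_left, mul_inv_cancel, mul_one] using h')
  rw [← hk _ hc' _ hb' hab', smul_nrm, ← mul_smul g g⁻¹ c, mul_inv_cancel, one_smul]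
  congr 1; group

theorem offsets_inner [Finite A] (hZ : ∀ m : M, (∀ g : A, g • m = m) → m = 0) {a : A} {c : M}
    (hc : L a c) : ∃ m : M, c = a • m + m := by
  have ha := hL.mem hc
  obtain ⟨b, hb, hab⟩ := exists_noncomm hM hD ha
  refine ⟨(a * b) • c, ?_⟩
  have hkv : Kv D L a (nrm (a * b) c) := by
    intro c' hc' b' hb' hab'
    obtain ⟨cb, hcb⟩ := hL.ex b hb
    rw [nrm_partner hM hD hL hc' hb' hb hab' hab, hL.noncomm hc' hcb hab, hL.noncomm hc hcb hab]
  obtain ⟨k, hk⟩ : ∃ k, k = nrm (a * b) c := ⟨_, rfl⟩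
  have h0 : k = 0 := by
    rw [← hk] at hkv
    have step : ∀ s ∈ D, ∀ a' ∈ D, Kv D L a' k → Kv D L (s * a' * s⁻¹) k := by
      intro s hs a' ha' h
      by_cases hsa : Commute s a'
      · rwa [hsa.eq, mul_inv_cancel_right]
      rw [inv' hD hs]
      intro c' hc' b' hb' hab'
      have hn : ¬ Commute (s * a' * s) a' := fun h' => hsa (by
        have e : s * a' * s = a' * s * a' := braid' hD hs ha' hsa
        rw [e] at h'
        have := ((Commute.refl a').mul_left h').mul_left (Commute.refl a')
        rwa [← mul_assoc, ← mul_assoc, sq hD ha', one_mul, mul_assoc, sq hD ha', mul_one] at this)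
      obtain ⟨ca, hca⟩ := hL.ex a' ha'
      rw [nrm_partner hM hD hL hc' hb' ha' hab' hn, hL.noncomm hc' hca hn,
        ← nrm_swap hD (conj_mem hD hs ha') ha' hn]
      exact h ca hca _ (conj_mem hD hs ha') (fun h' => hn h'.symm)
    have all : ∀ g : A, ∀ a' ∈ D, Kv D L a' k → Kv D L (g * a' * g⁻¹) k := by
      intro g
      have hg : g ∈ Subgroup.closure D := by rw [hD.grp.2.2]; exact Subgroup.mem_top g
      refine Subgroup.closure_induction'' (p := fun g _ => ∀ a' ∈ D, Kv D L a' k →
        Kv D L (g * a' * g⁻¹) k) step ?_ ?_ ?_ hg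
      · intro s hs a' ha'
        rw [inv' hD hs]
        exact step s hs a' ha'
      · intro a' _ h
        simpa using h
      · intro p q _ _ hp hq a' ha' h
        have := hp _ (hD.grp.2.1 q a' ha') (hq a' ha' h)
        simpa [mul_assoc] using this
    refine hZ _ fun g => ?_
    have h1 := kv_conj hM hD hL hkv g
    have ha' : g * a * g⁻¹ ∈ D := hD.grp.2.1 g a ha
    obtain ⟨b', hb', hab'⟩ := exists_noncomm hM hD ha'
    have hc' := hL.equiv g hc
    rw [← h1 _ hc' b' hb' hab', all g a ha hkv _ hc' b' hb' hab']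
  rw [decomp hM hD ha hb hab (hL.fixed hc), ← hk, h0, zero_add]

end

end CfsgLib.ThreeTransp.UniqueClass
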