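import Cfsg.Agent.Lib.ThreeTransp.UniqueClass.Subset
import Cfsg.Agent.Lib.ThreeTransp.UniqueClass.Constant
import Cfsg.Agent.Lib.Components.GenFitting
import Cfsg.Agent.Lib.Components.SFT.Criterion
import Cfsg.Prelude.Def_Transfer

/-!
# The generating class of 3-transpositions is unique when `F*(G)` is an elementary abelian 2-group
-/

set_option autoImplicit false

namespace CfsgLib.ThreeTransp.UniqueClass

open CfsgLib.ThreeTransp.Basic

universe u

variable {G : Type u} [Group G]

/-- The action of `G ⧸ V` on the abelian normal subgroup `V`. -/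
@[reducible] def quotAction (V : Subgroup G) [V.Normal] [IsMulCommutative V] :
    DistribMulAction (G ⧸ V) (Additive V) :=
  let φ : G ⧸ V →* MulAut V := QuotientGroup.lift V MulAut.conjNormal fun g hg => by
    refine MonoidHom.mem_ker.2 (MulEquiv.ext fun v => Subtype.ext ?_)
    rw [MulAut.conjNormal_apply, MulAut.one_apply]
    have : g * v = v * g := congrArg Subtype.val (IsMulCommutative.is_comm.comm ⟨g, hg⟩ v)
    rw [this, mul_inv_cancel_right]
  { smul := fun q m => Additive.ofMul (φ q (Additive.toMul m))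
    one_smul := fun m => by
      show Additive.ofMul (φ 1 (Additive.toMul m)) = m
      rw [map_one]; rfl
    mul_smul := fun p q m => by
      show Additive.ofMul (φ (p * q) (Additive.toMul m)) = _
      rw [map_mul]; rfl
    smul_zero := fun q => congrArg Additive.ofMul (map_one (φ q))
    smul_add := fun q m n =>
      congrArg Additive.ofMul (map_mul (φ q) (Additive.toMul m) (Additive.toMul n)) }

theorem unique_class {G : Type u} [Group G] [Finite G] {D E : Set G}
    (hD : Cfsg.IsThreeTranspositionClass D) (hE : Cfsg.IsThreeTranspositionClass E)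
    (hZ : Subgroup.center G = ⊥) (hF : Cfsg.generalizedFittingSubgroup G = Cfsg.pCore 2 G)
    (hV : Cfsg.IsElementaryAbelian 2 (Cfsg.pCore 2 G)) : E ⊆ D := by
  set V := Cfsg.pCore 2 G with hVdef
  haveI : V.Normal := Solvable.Cores.pCore_normal 2
  haveI : IsMulCommutative V := hV.1
  letI : AddCommGroup (Additive V) :=
    { (inferInstance : AddGroup (Additive V)) with
      add_comm := fun a b => congrArg Additive.ofMul
        (IsMulCommutative.is_comm.comm (Additive.toMul a) (Additive.toMul b)) }
  letI := quotAction V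
  let π : G →* G ⧸ V := QuotientGroup.mk' V
  have hπ : Function.Surjective π := QuotientGroup.mk'_surjective V
  have hker : ∀ g, π g = 1 ↔ g ∈ V := fun g => QuotientGroup.eq_one_iff g
  let co : Additive V → G := fun m => ((Additive.toMul m : V) : G)
  have co_inj : Function.Injective co := Subtype.val_injective.comp Additive.toMul.injective
  have co_mem : ∀ m, co m ∈ V := fun m => (Additive.toMul m : V).2
  have co_add : ∀ m n, co (m + n) = co m * co n := fun m n => rfl
  have co_zero : co 0 = 1 := rfl
  have co_smul : ∀ g m, co (π g • m) = g * co m * g⁻¹ := fun g m => rfl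
  have co_sq : ∀ m, co m * co m = 1 := fun m => by rw [← pow_two]; exact hV.2 _ (co_mem m)
  have co_inv : ∀ m, (co m)⁻¹ = co m := fun m => inv_eq_of_mul_eq_one_right (co_sq m)
  have co_comm : ∀ {v w : G}, v ∈ V → w ∈ V → v * w = w * v := fun {v w} hv hw =>
    congrArg Subtype.val (IsMulCommutative.is_comm.comm (⟨v, hv⟩ : V) ⟨w, hw⟩)
  -- a class does not meet `V`
  have notV : ∀ {X : Set G}, Cfsg.IsThreeTranspositionClass X → ∀ d ∈ X, d ∉ V := by
    intro X hX d hd hdV
    have hsub : X ⊆ V := fun x hx => by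
      obtain ⟨g, rfl⟩ := class_conj hX hd hx
      exact Subgroup.Normal.conj_mem inferInstance d hdV g
    have htop : (⊤ : Subgroup G) ≤ V := hX.2.2 ▸ (Subgroup.closure_le V).2 hsub
    have hcen : d ∈ Subgroup.center G :=
      Subgroup.mem_center_iff.2 fun g => co_comm (htop (Subgroup.mem_top g)) hdV
    rw [hZ, Subgroup.mem_bot] at hcen
    exact ne_one (hX.1.1 d hd) hcen
  have lifts : ∀ {X : Set G}, Cfsg.IsThreeTranspositionClass X → ∀ a ∈ X, ∀ b ∈ X,
      Commute (π a) (π b) → Commute a b := by
    intro X hX a ha b hb h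
    rcases hX.1.2 a ha b hb with h2 | h3
    · exact (commute_iff (sq_one (hX.1.1 a ha)) (sq_one (hX.1.1 b hb))).2 h2
    · have ea : π a * π a = 1 := by rw [← map_mul, sq_one (hX.1.1 a ha), map_one]
      have eb : π b * π b = 1 := by rw [← map_mul, sq_one (hX.1.1 b hb), map_one]
      have h2' := (commute_iff ea eb).1 h
      have h3' : (π a * π b) ^ 3 = 1 := by rw [← map_mul, ← map_pow, h3, map_one]
      rw [pow_succ, h2', one_mul, ← map_mul, hker] at h3'
      exact (commute_iff (sq_one (hX.1.1 a ha)) (sq_one (hX.1.1 b hb))).2 (hV.2 _ h3')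
  have cls : ∀ {X : Set G}, Cfsg.IsThreeTranspositionClass X →
      ModCls (G ⧸ V) (Additive V) (π '' X) := by
    intro X hX
    have hconj : ∀ g : G, ∀ d ∈ X, g * d * g⁻¹ ∈ X := (class_isGroup hX).2.1
    refine ⟨⟨⟨?_, ?_⟩, ?_, ?_⟩, ?_, ?_⟩
    · rintro _ ⟨d, hd, rfl⟩
      exact orderOf_eq_prime (by rw [← map_pow, pow_two, sq_one (hX.1.1 d hd), map_one])
        (fun h => notV hX d hd ((hker d).1 h))
    · rintro _ ⟨a, ha, rfl⟩ _ ⟨b, hb, rfl⟩
      exact (hX.1.2 a ha b hb).imp (fun h => by rw [← map_mul, ← map_pow, h, map_one])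
        fun h => by rw [← map_mul, ← map_pow, h, map_one]
    · rintro g _ ⟨d, hd, rfl⟩
      obtain ⟨g, rfl⟩ := hπ g
      exact ⟨g * d * g⁻¹, hconj g d hd, by simp⟩
    · rw [← MonoidHom.map_closure, hX.2.2, Subgroup.map_top_of_surjective π hπ]
    · rintro _ ⟨a, ha, rfl⟩ _ ⟨b, hb, rfl⟩ hc m
      have c1 : Commute b a := lifts hX b hb a ha hc.symm
      have e : π (co m * a * (co m)⁻¹) = π a := by
        rw [map_mul, map_mul, (hker _).2 (co_mem m), map_inv, (hker _).2 (co_mem m)]; simp
      have c2 : Commute b (co m * a * (co m)⁻¹) :=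
        lifts hX b hb _ (hconj _ a ha) (by rw [e]; exact hc.symm)
      have hw : co (π a • m + m) = a * (co m * a * (co m)⁻¹) := by
        rw [co_add, co_smul, inv_self (hX.1.1 a ha), co_inv]; simp only [mul_assoc]
      apply co_inj
      rw [co_smul, hw, (c1.mul_right c2).eq, mul_inv_cancel_right]
    · rintro _ ⟨a, ha, rfl⟩ _ ⟨b, hb, rfl⟩ hc m hm
      have hab : ¬ Commute a b := fun h => hc (h.map π)
      have e : π (co m * a * (co m)⁻¹) = π a := by
        rw [map_mul, map_mul, (hker _).2 (co_mem m), map_inv, (hker _).2 (co_mem m)]; simp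
      have hab' : ¬ Commute (co m * a * (co m)⁻¹) b := fun h => hc (by
        have := h.map π
        rwa [e] at this)
      have A2 := sq_one (hX.1.1 a ha); have B2 := sq_one (hX.1.1 b hb)
      have x3 := (braid_iff A2 B2).1 (braid hX.1 ha hb hab)
      have y3 := (braid_iff (sq_one (hX.1.1 _ (hconj (co m) a ha))) B2).1
        (braid hX.1 (hconj (co m) a ha) hb hab')
      have hxv : a * b * co m = co m * (a * b) := by
        have h := congrArg co hm
        rw [← map_mul, co_smul] at h
        exact mul_inv_eq_iff_eq_mul.1 h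
      have hbm : co (π a • m + m) = co m * (a * co m * a⁻¹) := by
        rw [co_add, co_smul]
        exact co_comm (Subgroup.Normal.conj_mem inferInstance _ (co_mem m) a) (co_mem m)
      have hxw : Commute (a * b) (co (π a • m + m)) := by
        have hxa : a * b * a = a * (a * b)⁻¹ := by
          rw [mul_inv_rev, inv_self (hX.1.1 a ha), inv_self (hX.1.1 b hb), mul_assoc]
        rw [hbm]
        refine Commute.mul_right hxv ?_
        show a * b * (a * co m * a⁻¹) = a * co m * a⁻¹ * (a * b)
        have hxi : (a * b)⁻¹ * co m = co m * (a * b)⁻¹ := (Commute.inv_left (show Commute (a * b) (co m) from hxv)).eq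
        calc a * b * (a * co m * a⁻¹) = (a * b * a) * co m * a⁻¹ := by simp only [mul_assoc]
          _ = a * co m * ((a * b)⁻¹ * a⁻¹) := by rw [hxa, mul_assoc a, hxi]; simp only [mul_assoc]
          _ = _ := by
              rw [mul_inv_rev, inv_self (hX.1.1 a ha), inv_self (hX.1.1 b hb)]
              simp only [mul_assoc, A2, mul_one]
              rw [← mul_assoc a a, A2, one_mul]
      have e2 : co m * a * (co m)⁻¹ * b = co (π a • m + m) * (a * b) := by
        rw [hbm, co_inv]
        simp only [mul_assoc, inv_mul_cancel_left]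
      rw [e2, hxw.symm.mul_pow, x3, mul_one, pow_succ, pow_two, co_sq, one_mul, ← co_zero] at y3
      have h2 : m + m = 0 := co_inj (by rw [co_add, co_sq, co_zero])
      calc π a • m = π a • m + (m + m) := by rw [h2, add_zero]
        _ = (π a • m + m) + m := by abel
        _ = m := by rw [co_inj y3, zero_add]
  have good : ModGood (G ⧸ V) (Additive V) := by
    refine ⟨fun m => co_inj (by rw [co_add, co_sq, co_zero]), fun g hg => ?_, ?_⟩
    · obtain ⟨g, rfl⟩ := hπ g
      rw [hker, ← hF]
      refine (le_sup_right : Cfsg.fittingSubgroup G ≤ Cfsg.generalizedFittingSubgroup G)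
        (CfsgLib.Components.centralizer_generalizedFitting_le_fitting ?_)
      rw [hF, Subgroup.mem_centralizer_iff]
      intro v hv
      have h := congrArg co (hg (Additive.ofMul ⟨v, hv⟩))
      rw [co_smul] at h
      exact (mul_inv_eq_iff_eq_mul.1 h).symm
    · exact CfsgLib.Components.SFT.pCore_quotient_eq_bot 2 G
  have hDb := cls hD
  have hEb := cls hE
  let L : G ⧸ V → Additive V → Prop := fun a c =>
    ∃ g ∈ D, ∃ h ∈ E, π g = a ∧ h = co c * g
  have hoff : Offsets (π '' D) L := by
    refine ⟨?_, ?_, ?_, ?_, ?_, ?_⟩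
    · rintro a c ⟨g, hg, -, -, rfl, -⟩
      exact ⟨g, hg, rfl⟩
    · rintro a c ⟨g, hg, h, hh, rfl, rfl⟩
      refine co_inj ?_
      rw [co_smul]
      have h1 := sq_one (hE.1.1 _ hh)
      rw [mul_assoc, mul_eq_one_iff_inv_eq, co_inv] at h1
      rw [inv_self (hD.1.1 g hg), mul_assoc, ← h1]
    · intro a ha
      have haE : a ∈ π '' E := mem_of_mem good hEb hDb ha
      obtain ⟨g, hg, rfl⟩ := ha
      obtain ⟨h, hh, hhg⟩ := haE
      have hm : h * g⁻¹ ∈ V := by rw [← hker, map_mul, map_inv, hhg, mul_inv_cancel]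
      exact ⟨Additive.ofMul ⟨h * g⁻¹, hm⟩, g, hg, h, hh, rfl, (inv_mul_cancel_right h g).symm⟩
    · rintro a b c c' ⟨g, hg, h, hh, rfl, rfl⟩ ⟨g', hg', h', hh', rfl, rfl⟩ hc
      have e1 : π (co c * g) = π g := by rw [map_mul, (hker _).2 (co_mem c), one_mul]
      have e2 : π (co c' * g') = π g' := by rw [map_mul, (hker _).2 (co_mem c'), one_mul]
      have hhh := (lifts hE _ hh _ hh' (by rw [e1, e2]; exact hc)).eq
      have hgg := (lifts hD g hg g' hg' hc).eq
      have h1 : co (c + π g • c') = co (c' + π g' • c) := by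
        rw [co_add, co_add, co_smul, co_smul]
        refine mul_right_cancel (b := g * g') ?_
        calc co c * (g * co c' * g⁻¹) * (g * g') = co c * g * (co c' * g') := by
              simp only [mul_assoc, inv_mul_cancel_left]
          _ = co c' * g' * (co c * g) := hhh
          _ = _ := by rw [hgg]; simp only [mul_assoc, inv_mul_cancel_left]
      have h2 := co_inj h1
      calc π g • c' + c' = (c + π g • c') + c' + c := by
            calc _ = π g • c' + c' + (c + c) := by rw [good.two c, add_zero]
              _ = _ := by abel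
        _ = (c' + π g' • c) + c' + c := by rw [h2]
        _ = (c' + c') + (π g' • c + c) := by abel
        _ = _ := by rw [good.two, zero_add]
    · rintro a b c c' ⟨g, hg, h, hh, rfl, rfl⟩ ⟨g', hg', h', hh', rfl, rfl⟩ hc
      have e1 : π (co c * g) = π g := by rw [map_mul, (hker _).2 (co_mem c), one_mul]
      have e2 : π (co c' * g') = π g' := by rw [map_mul, (hker _).2 (co_mem c'), one_mul]
      have hgg : ¬ Commute g g' := fun h => hc (h.map π)
      have hhh : ¬ Commute (co c * g) (co c' * g') := fun h => hc (by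
        have := h.map π
        rwa [e1, e2] at this)
      have x3 := (braid_iff (sq_one (hD.1.1 g hg)) (sq_one (hD.1.1 g' hg'))).1
        (braid hD.1 hg hg' hgg)
      have y3 := (braid_iff (sq_one (hE.1.1 _ hh)) (sq_one (hE.1.1 _ hh'))).1
        (braid hE.1 hh hh' hhh)
      rw [pow_succ, pow_two] at x3 y3
      have hw : co c * g * (co c' * g') = co (c + π g • c') * (g * g') := by
        rw [co_add, co_smul]; simp only [mul_assoc, inv_mul_cancel_left]
      rw [hw] at y3
      obtain ⟨w, hwdef⟩ : ∃ w, w = c + π g • c' := ⟨_, rfl⟩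
      rw [← hwdef] at y3
      have hz : nrm (π g * π g') w = 0 := by
        apply co_inj
        rw [co_zero, nrm, co_add, co_add, ← map_mul, ← map_mul, co_smul, co_smul]
        have h3 : co w * (g * g') * (co w * (g * g')) * (co w * (g * g')) =
            co w * (g * g' * co w * (g * g')⁻¹) *
              (g * g' * (g * g') * co w * (g * g' * (g * g'))⁻¹) *
              (g * g' * (g * g') * (g * g')) := by group
        rw [h3, x3, mul_one] at y3
        exact y3
      rw [hwdef, nrm_add, nrm_smul hDb ⟨g, hg, rfl⟩ ⟨g', hg', rfl⟩ hc] at hz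
      rw [eq_neg_of_add_eq_zero_left hz, neg_eq_of_add_eq_zero_left (good.two _)]
    · rintro p a c ⟨g, hg, h, hh, rfl, rfl⟩
      obtain ⟨p, rfl⟩ := hπ p
      refine ⟨p * g * p⁻¹, (class_isGroup hD).2.1 p g hg, _, (class_isGroup hE).2.1 p _ hh,
        by simp, ?_⟩
      rw [co_smul]; simp [mul_assoc]
  have hfix : ∀ m : Additive V, (∀ q : G ⧸ V, q • m = m) → m = 0 := by
    intro m hm
    have hc : co m ∈ Subgroup.center G := Subgroup.mem_center_iff.2 fun g => by
      have h := congrArg co (hm (π g))
      rw [co_smul] at h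
      exact mul_inv_eq_iff_eq_mul.1 h
    rw [hZ, Subgroup.mem_bot] at hc
    exact co_inj (hc.trans co_zero.symm)
  intro e he
  obtain ⟨g, hg, hge⟩ := mem_of_mem good hDb hEb ⟨e, he, rfl⟩
  have hm : e * g⁻¹ ∈ V := by rw [← hker, map_mul, map_inv, hge, mul_inv_cancel]
  have hL : L (π g) (Additive.ofMul ⟨e * g⁻¹, hm⟩) :=
    ⟨g, hg, e, he, rfl, (inv_mul_cancel_right e g).symm⟩
  obtain ⟨m, hmeq⟩ := offsets_inner good hDb hoff hfix hL
  have h := congrArg co hmeq
  rw [co_add, co_smul] at h
  change e * g⁻¹ = g * co m * g⁻¹ * co m at h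
  have he' : e = g * co m * g⁻¹ * co m * g := by rw [← h, inv_mul_cancel_right]
  have gi := inv_self (hD.1.1 g hg)
  have e3 : g * co m * g⁻¹ * g * (g * co m * g⁻¹)⁻¹ = e := by
    rw [he', mul_inv_rev, mul_inv_rev, co_inv, inv_inv, gi]
    simp only [mul_assoc, ← mul_assoc g g, sq_one (hD.1.1 g hg), one_mul]
  rw [← e3]
  exact (class_isGroup hD).2.1 _ g hg

end CfsgLib.ThreeTransp.UniqueClass
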