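import Cfsg.Agent.Lib.ThreeTransp.Basic
import Cfsg.Agent.Lib.Sporadic.FischerCores

/-!
# Modules of 3-transposition groups with trivial 2-core

`A` acts faithfully on an elementary abelian 2-group `M` and `D` is a set of 3-transpositions such
that commuting members centralise each other's commutator spaces and a member `a` centralises the
fixed space of `a * b` whenever `a`, `b` do not commute. This is what the classes of 3-transpositions
of an extension of `M` by `A` give. Two such sets which both generate `A` are equal.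
-/

set_option autoImplicit false

namespace CfsgLib.ThreeTransp.UniqueClass

open CfsgLib.ThreeTransp.Basic

variable {A M : Type*} [Group A] [AddCommGroup M] [DistribMulAction A M]

/-- The conditions on a generating set of 3-transpositions of `A` acting on `M`. -/
structure ModCls (A M : Type*) [Group A] [AddCommGroup M] [DistribMulAction A M] (D : Set A) : Prop where
  grp : Cfsg.IsThreeTranspositionGroup D
  comm : ∀ a ∈ D, ∀ b ∈ D, Commute a b → ∀ m : M, b • (a • m + m) = a • m + m
  tri : ∀ a ∈ D, ∀ b ∈ D, ¬ Commute a b → ∀ m : M, (a * b) • m = m → a • m = m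

/-- The standing conditions on the module. -/
structure ModGood (A M : Type*) [Group A] [AddCommGroup M] [DistribMulAction A M] : Prop where
  two : ∀ m : M, m + m = 0
  faith : ∀ g : A, (∀ m : M, g • m = m) → g = 1
  core : Cfsg.pCore 2 A = ⊥

/-- The sum over the powers of an element of order three. -/
def nrm (x : A) (m : M) : M := m + x • m + (x * x) • m

theorem nrm_fix {x : A} (hx : x * x * x = 1) (m : M) : x • nrm x m = nrm x m := by
  simp only [nrm, smul_add, ← mul_smul, ← mul_assoc, hx, one_smul]; abel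

theorem nrm_add (x : A) (m n : M) : nrm x (m + n) = nrm x m + nrm x n := by
  simp only [nrm, smul_add]; abel

theorem nrm_of_fix (hM : ModGood A M) {x : A} {m : M} (h : x • m = m) : nrm x m = m := by
  rw [nrm, mul_smul, h, h, add_assoc, hM.two m, add_zero]

theorem smul_nrm_comm {g x : A} (h : g * x = x * g) (m : M) : g • nrm x m = nrm x (g • m) := by
  have h2 : g * (x * x) = x * x * g := by rw [← mul_assoc, h, mul_assoc, h, mul_assoc]
  simp only [nrm, smul_add, ← mul_smul, h, h2]

theorem smul_nrm_inv {g x : A} (hx : x * x * x = 1) (h : g * x = x⁻¹ * g) (m : M) :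
    g • nrm x m = nrm x (g • m) := by
  have hi : x⁻¹ = x * x := inv_eq_of_mul_eq_one_right (by rw [← mul_assoc, hx])
  have h1 : g * x = x * x * g := by rw [h, hi]
  have h2 : g * (x * x) = x * g := by
    rw [← mul_assoc, h, mul_assoc, h, ← mul_assoc, hi, ← mul_assoc, hx, one_mul]
  simp only [nrm, smul_add, ← mul_smul, h1, h2]; abel

variable {D : Set A}

section

variable (hM : ModGood A M) (hD : ModCls A M D)

include hD

theorem sq {a : A} (ha : a ∈ D) : a * a = 1 := sq_one (hD.grp.1.1 a ha)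

theorem inv' {a : A} (ha : a ∈ D) : a⁻¹ = a := inv_self (hD.grp.1.1 a ha)

theorem conj_mem {a : A} (ha : a ∈ D) {b : A} (hb : b ∈ D) : a * b * a ∈ D :=
  conj_mem_mul hD.grp.1.1 hD.grp.2.1 ha hb

theorem braid' {a b : A} (ha : a ∈ D) (hb : b ∈ D) (h : ¬ Commute a b) : a * b * a = b * a * b :=
  braid hD.grp.1 ha hb h

theorem cube {a b : A} (ha : a ∈ D) (hb : b ∈ D) (h : ¬ Commute a b) :
    a * b * (a * b) * (a * b) = 1 := by
  have := (braid_iff (sq hD ha) (sq hD hb)).1 (braid' hD ha hb h)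
  rw [pow_succ, pow_two] at this
  exact this

theorem swap {a b : A} (ha : a ∈ D) (hb : b ∈ D) : a * (a * b) = (a * b)⁻¹ * a := by
  rw [mul_inv_rev, inv' hD ha, inv' hD hb, ← mul_assoc, sq hD ha, one_mul, mul_assoc, sq hD ha,
    mul_one]

theorem smul_smul_self {a : A} (ha : a ∈ D) (m : M) : a • a • m = m := by
  rw [← mul_smul, sq hD ha, one_smul]

theorem fix_U {a : A} (ha : a ∈ D) (m : M) : a • (a • m + m) = a • m + m := by
  rw [smul_add, smul_smul_self hD ha]; abel

theorem nrm_smul {a b : A} (ha : a ∈ D) (hb : b ∈ D) (h : ¬ Commute a b) (m : M) :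
    nrm (a * b) (a • m) = nrm (a * b) m := by
  rw [← smul_nrm_inv (cube hD ha hb h) (swap hD ha hb)]
  exact hD.tri a ha b hb h _ (nrm_fix (cube hD ha hb h) m)

include hM

theorem U_eq_zero {a b : A} (ha : a ∈ D) (hb : b ∈ D) (h : ¬ Commute a b) {m : M}
    (hfix : b • (a • m + m) = a • m + m) : a • m + m = 0 := by
  have hx : (a * b) • (a • m + m) = a • m + m := by rw [mul_smul, hfix, fix_U hD ha]
  rw [← nrm_of_fix hM hx, nrm_add, nrm_smul hD ha hb h, hM.two]

/-- The fixed space of `a` is the fixed space of `⟨a, b⟩` plus the commutator space of `a`. -/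
theorem decomp {a b : A} (ha : a ∈ D) (hb : b ∈ D) (h : ¬ Commute a b) {m : M} (hm : a • m = m) :
    a • ((a * b) • m) + (a * b) • m = nrm (a * b) m + m := by
  have hx := cube hD ha hb h
  have hi : (a * b)⁻¹ = a * b * (a * b) := inv_eq_of_mul_eq_one_right (by rw [← mul_assoc, hx])
  rw [← mul_smul, swap hD ha hb, mul_smul, hm, hi, nrm]
  calc (a * b * (a * b)) • m + (a * b) • m
      = (m + m) + ((a * b * (a * b)) • m + (a * b) • m) := by rw [hM.two, zero_add]
    _ = _ := by abel

theorem exists_cross [Finite A] {a b : A} (ha : a ∈ D) (hb : b ∈ D) (hne : a ≠ b) :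
    ∃ c ∈ D, (Commute c b ∧ ¬ Commute c a) ∨ (Commute c a ∧ ¬ Commute c b) := by
  by_contra hcon
  push Not at hcon
  have hs : CfsgLib.Sporadic.FischerCores.SameV D a b := ⟨ha, hb, fun e he => ⟨fun hea =>
    ((hcon e he).2 hea.symm).symm, fun heb => ((hcon e he).1 heb.symm).symm⟩⟩
  have := CfsgLib.Sporadic.FischerCores.mul_mem_pCore_two hD.grp hs
  rw [hM.core, Subgroup.mem_bot, mul_eq_one_iff_eq_inv, inv' hD hb] at this
  exact hne this

theorem U_inter [Finite A] {a b : A} (ha : a ∈ D) (hb : b ∈ D) (hc : Commute a b) (hne : a ≠ b)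
    {m n : M} (h : a • m + m = b • n + n) : a • m + m = 0 := by
  obtain ⟨c, hcD, ⟨hcb, hca⟩ | ⟨hca, hcb⟩⟩ := exists_cross hM hD ha hb hne
  · refine U_eq_zero hM hD ha hcD (fun h' => hca h'.symm) ?_
    rw [h]
    exact hD.comm b hb c hcD hcb.symm n
  · rw [h]
    refine U_eq_zero hM hD hb hcD (fun h' => hcb h'.symm) ?_
    rw [← h]
    exact hD.comm a ha c hcD hca.symm m

theorem exists_noncomm [Finite A] {a : A} (ha : a ∈ D) : ∃ b ∈ D, ¬ Commute a b := by
  by_contra hcon
  push Not at hcon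
  have hcen : a ∈ Subgroup.center A := by
    rw [Subgroup.mem_center_iff]
    intro g
    have : g ∈ Subgroup.centralizer ({a} : Set A) := by
      have h2 : (⊤ : Subgroup A) ≤ Subgroup.centralizer ({a} : Set A) := by
        rw [← hD.grp.2.2, Subgroup.closure_le]
        intro d hd
        exact Subgroup.mem_centralizer_singleton_iff.2 (hcon d hd).symm.eq
      exact h2 (Subgroup.mem_top g)
    exact Subgroup.mem_centralizer_singleton_iff.1 this
  haveI : (Subgroup.zpowers a).Normal := ⟨fun n hn g => by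
    obtain ⟨k, rfl⟩ := Subgroup.mem_zpowers_iff.1 hn
    rw [Subgroup.mem_center_iff.1 (Subgroup.zpow_mem _ hcen k) g, mul_inv_cancel_right]
    exact Subgroup.mem_zpowers_iff.2 ⟨k, rfl⟩⟩
  have hp : IsPGroup 2 (Subgroup.zpowers a) :=
    IsPGroup.of_card (n := 1) (by rw [Nat.card_zpowers, hD.grp.1.1 a ha, pow_one])
  have := Solvable.Cores.le_pCore hp (Subgroup.mem_zpowers a)
  rw [hM.core, Subgroup.mem_bot] at this
  exact ne_one (hD.grp.1.1 a ha) this

/-- An element which commutes with a non-commuting pair and centralises the fixed space of one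
member is the identity. -/
theorem eq_one_of_fix {a b z : A} (ha : a ∈ D) (hb : b ∈ D) (h : ¬ Commute a b)
    (hza : Commute z a) (hzb : Commute z b) (hz : ∀ m : M, a • m = m → z • m = m) : z = 1 := by
  refine hM.faith z fun m => ?_
  have hx := cube hD ha hb h
  have hi : (a * b)⁻¹ = a * b * (a * b) := inv_eq_of_mul_eq_one_right (by rw [← mul_assoc, hx])
  have hzero : nrm (a * b) (a • m + m) = 0 := by rw [nrm_add, nrm_smul hD ha hb h, hM.two]
  have hau : a • ((a * b) • (a • m + m)) + (a * b) • (a • m + m) = a • m + m := by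
    rw [decomp hM hD ha hb h (fix_U hD ha m), hzero, zero_add]
  have h1 : z • ((a * b) • (a • m + m)) = (a * b) • (a • m + m) := by
    rw [← mul_smul, (hza.mul_right hzb).eq, mul_smul, hz _ (fix_U hD ha m)]
  have h2 : a • (m + (a * b) • (a • m + m)) = m + (a * b) • (a • m + m) := by
    have e : a • ((a * b) • (a • m + m)) = a • m + m + (a * b) • (a • m + m) := by
      nth_rewrite 2 [← hau]
      rw [add_assoc, hM.two, add_zero]
    rw [smul_add, e, ← add_assoc, ← add_assoc, hM.two, zero_add]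
  have h3 := hz _ h2
  rw [smul_add, h1] at h3
  exact add_right_cancel h3

end

theorem swap_rel {G : Type*} [Group G] {a b : G} (h1 : (a * b⁻¹) ^ 3 = 1) (h2 : (a * b) ^ 3 = 1)
    (ha : a ^ 3 = 1) (hb : b ^ 3 = 1) : a * (b⁻¹ * a * b) = b⁻¹ * a * b * a := by
  have ha' : a * a = a⁻¹ := eq_inv_of_mul_eq_one_left (by rw [← ha, pow_succ, pow_two])
  have hb' : b * b = b⁻¹ := eq_inv_of_mul_eq_one_left (by rw [← hb, pow_succ, pow_two])
  have e1 : a * b⁻¹ * a = b * a⁻¹ * b := by
    have : (a * b⁻¹ * a) * (b⁻¹ * a * b⁻¹) = 1 := by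
      rw [← h1]; simp only [pow_succ, pow_zero, one_mul, mul_assoc]
    rw [eq_inv_of_mul_eq_one_left this]; simp [mul_assoc]
  have e2 : a * b * a = b⁻¹ * a⁻¹ * b⁻¹ := by
    have : (a * b * a) * (b * a * b) = 1 := by
      rw [← h2]; simp only [pow_succ, pow_zero, one_mul, mul_assoc]
    rw [eq_inv_of_mul_eq_one_left this]; simp [mul_assoc]
  calc a * (b⁻¹ * a * b) = a * b⁻¹ * a * b := by simp only [mul_assoc]
    _ = b * a⁻¹ * (b * b) := by rw [e1]; simp only [mul_assoc]
    _ = b⁻¹ * (b⁻¹ * a⁻¹ * b⁻¹) := by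
      rw [hb', ← mul_assoc, ← mul_assoc, ← mul_inv_rev b b, hb', inv_inv]
    _ = b⁻¹ * a * b * a := by rw [← e2]; simp only [mul_assoc]

/-- A triangle of pairwise non-commuting members `a`, `b`, `c` with `a * b * a`, `c` not commuting:
the commutator of `a * b` and `a * c` is central in the group they generate and of order dividing 3. -/
theorem triangle (hD : ModCls A M D) {a b c : A} (ha : a ∈ D) (hb : b ∈ D) (hc : c ∈ D)
    (hab : ¬ Commute a b) (hac : ¬ Commute a c) (hbc : ¬ Commute b c)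
    (habc : ¬ Commute (a * b * a) c) {x y z : A} (hx : x = a * b) (hy : y = a * c)
    (hz : z = x⁻¹ * y⁻¹ * x * y) :
    Commute x z ∧ Commute y z ∧ z * z * z = 1 ∧ Commute a z := by
  have A' := sq hD ha; have B' := sq hD hb; have C' := sq hD hc
  have ai := inv' hD ha; have bi := inv' hD hb; have ci := inv' hD hc
  have p3 : ∀ {p q : A}, p ∈ D → q ∈ D → ¬ Commute p q → (p * q) ^ 3 = 1 := fun hp hq h =>
    (braid_iff (sq hD hp) (sq hD hq)).1 (braid' hD hp hq h)
  have x3 : x ^ 3 = 1 := hx ▸ p3 ha hb hab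
  have y3 : y ^ 3 = 1 := hy ▸ p3 ha hc hac
  have xy3 : (x * y) ^ 3 = 1 := by
    have : x * y = (a * b * a) * c := by rw [hx, hy]; simp only [mul_assoc]
    rw [this]
    exact p3 (conj_mem hD ha hb) hc habc
  have xyi3 : (x * y⁻¹) ^ 3 = 1 := by
    have : x * y⁻¹ = a * (b * c) * a⁻¹ := by
      rw [hx, hy, mul_inv_rev, ai, ci]; simp only [mul_assoc]
    rw [this, conj_pow, p3 hb hc hbc, mul_one, mul_inv_cancel]
  have yxi3 : (y * x⁻¹) ^ 3 = 1 := by
    rw [show y * x⁻¹ = (x * y⁻¹)⁻¹ by rw [mul_inv_rev, inv_inv], inv_pow, xyi3, inv_one]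
  have yx3 : (y * x) ^ 3 = 1 := by
    rw [show y * x = x⁻¹ * (x * y) * x⁻¹⁻¹ by group, conj_pow, xy3, mul_one, mul_inv_cancel]
  have c1 : Commute x (y⁻¹ * x * y) := swap_rel xyi3 xy3 x3 y3
  have c2 : Commute y (x⁻¹ * y * x) := swap_rel yxi3 yx3 y3 x3
  have zx : Commute x z := by
    rw [hz, show x⁻¹ * y⁻¹ * x * y = x⁻¹ * (y⁻¹ * x * y) by group]
    exact (Commute.refl x).inv_right.mul_right c1
  have zy : Commute y z := by
    rw [hz, show x⁻¹ * y⁻¹ * x * y = (y⁻¹ * (x⁻¹ * y * x))⁻¹ by group]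
    exact ((Commute.refl y).inv_right.mul_right c2).inv_right
  refine ⟨zx, zy, ?_, ?_⟩
  · have h1 : z = x⁻¹ * (y⁻¹ * x * y) := by rw [hz]; group
    have h2 : z ^ 3 = 1 := by
      have h4 : (y⁻¹ * x * y⁻¹⁻¹) ^ 3 = y⁻¹ * x ^ 3 * y⁻¹⁻¹ := conj_pow
      rw [inv_inv, x3, mul_one, inv_mul_cancel] at h4
      rw [h1, c1.inv_left.mul_pow, inv_pow, x3, h4, inv_one, one_mul]
    rw [← h2, pow_succ, pow_two]
  · have ax : a * x * a⁻¹ = x⁻¹ := by rw [hx, swap hD ha hb, mul_inv_cancel_right]
    have ay : a * y * a⁻¹ = y⁻¹ := by rw [hy, swap hD ha hc, mul_inv_cancel_right]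
    have h1 : MulAut.conj a z = x * y * x⁻¹ * y⁻¹ := by
      rw [hz]
      simp only [map_mul, map_inv, MulAut.conj_apply, ax, ay, inv_inv]
    have h2 : x * y * x⁻¹ * y⁻¹ = z := by
      have e : x * y = y * x * z := by rw [hz]; group
      rw [e, mul_assoc (y * x) z, zx.inv_left.symm.eq, ← mul_assoc, mul_inv_cancel_right,
        zy.eq, mul_inv_cancel_right]
    rw [h2, MulAut.conj_apply, mul_inv_eq_iff_eq_mul] at h1
    exact h1

end CfsgLib.ThreeTransp.UniqueClass
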