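import Cfsg.Agent.Lib.ThreeTransp.UniqueClass.Module

/-!
# Two generating sets of 3-transpositions of the same module are equal
-/

set_option autoImplicit false

namespace CfsgLib.ThreeTransp.UniqueClass

open CfsgLib.ThreeTransp.Basic

variable {A M : Type*} [Group A] [AddCommGroup M] [DistribMulAction A M] {D E : Set A}

section

variable (hM : ModGood A M) (hD : ModCls A M D) (hE : ModCls A M E)

include hM

theorem fix_of_inverted {u y s : A} (hs : ∀ m : M, u • m = m → s • m = m) (hyu : Commute y u)
    (hy : y * y * y = 1) (hsy : s * y = y⁻¹ * s) {m : M} (hm : u • m = m) : y • m = m := by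
  have h1 : u • (y • m) = y • m := by rw [← mul_smul, ← hyu.eq, mul_smul, hm]
  have h2 : s • (y • m) = y⁻¹ • m := by rw [← mul_smul, hsy, mul_smul, hs m hm]
  rw [hs _ h1] at h2
  have hi : y⁻¹ = y * y := inv_eq_of_mul_eq_one_right (by rw [← mul_assoc, hy])
  rw [hi, mul_smul] at h2
  exact ((MulAction.injective y) h2).symm

include hD hE

theorem no_commuting_image [Finite A] {e d : A} (he : e ∈ E) (hd : d ∈ D)
    (hc : Commute d (e * d * e)) : e * d * e = d := by
  by_contra hne
  set d' := e * d * e with hd'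
  have he2 := sq hE he; have hd2 := sq hD hd
  have hd'D : d' ∈ D := by
    have := hD.grp.2.1 e d hd
    rwa [inv' hE he] at this
  have hed'e : e * d' = d * e := by rw [hd', ← mul_assoc, ← mul_assoc, he2, one_mul]
  have hE' : d * e * d ∈ E := by
    have := hE.grp.2.1 d e he
    rwa [inv' hD hd] at this
  have hcc : Commute e (d * e * d) := by
    show e * (d * e * d) = d * e * d * e
    calc e * (d * e * d) = d' * d := by rw [hd']; simp only [mul_assoc]
      _ = d * d' := hc.eq.symm
      _ = _ := by rw [hd']; simp only [mul_assoc]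
  have key : ∀ m : M, d' • m = m → d • m = m := by
    intro m hm
    have hde : d • (e • m) = e • m := by
      nth_rewrite 2 [← hm]
      rw [← mul_smul, ← mul_smul, hed'e]
    have h := hE.comm e he _ hE' hcc m
    rw [mul_smul, mul_smul] at h
    have h' := congrArg (fun v => d • v) h
    simp only [smul_smul_self hD hd, smul_add, hde, smul_smul_self hE he] at h'
    have h5 : e • (d • m + m) = d • m + m := by
      calc e • (d • m + m) = (e • (d • m) + m) + (e • m + m) := by
            rw [smul_add]
            calc e • d • m + e • m = e • d • m + e • m + (m + m) := by rw [hM.two, add_zero]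
              _ = _ := by abel
        _ = (e • m + d • m) + (e • m + m) := by rw [add_comm (e • d • m) m, ← h']
        _ = (e • m + e • m) + (d • m + m) := by abel
        _ = _ := by rw [hM.two, zero_add]
    have h6 : d • m + m = d' • (e • m) + e • m := by
      rw [← h5, smul_add, ← mul_smul d', hd', mul_assoc (e * d), he2, mul_one, mul_smul]
    exact (add_eq_zero_iff_eq_neg.1 (U_inter hM hD hd hd'D hc (Ne.symm hne) h6)).trans
      (neg_eq_of_add_eq_zero_left (hM.two m))
  have key' : ∀ m : M, d • m = m → d' • m = m := by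
    intro m hm
    have h1 : d' • (e • m) = e • m := by
      rw [← mul_smul, hd', mul_assoc (e * d), he2, mul_one, mul_smul, hm]
    rw [hd', mul_smul, mul_smul, key _ h1, smul_smul_self hE he]
  obtain ⟨c, hcD, ⟨h1, h2⟩ | ⟨h1, h2⟩⟩ := exists_cross hM hD hd hd'D (Ne.symm hne)
  · refine ne_one (hD.grp.1.1 c hcD) (hM.faith c fun m => ?_)
    exact (add_eq_zero_iff_eq_neg.1
      (U_eq_zero hM hD hcD hd h2 (key _ (hD.comm c hcD d' hd'D h1 m)))).trans
      (neg_eq_of_add_eq_zero_left (hM.two m))
  · refine ne_one (hD.grp.1.1 c hcD) (hM.faith c fun m => ?_)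
    exact (add_eq_zero_iff_eq_neg.1
      (U_eq_zero hM hD hcD hd'D h2 (key' _ (hD.comm c hcD d hd h1 m)))).trans
      (neg_eq_of_add_eq_zero_left (hM.two m))

omit hM

/-- `f` is the centre of the line on which `e` moves `d`. -/
structure Img (D : Set A) (e f d : A) : Prop where
  fD : f ∈ D
  dD : d ∈ D
  ef : Commute e f
  fd : ¬ Commute f d
  move : e * d * e = f * d * f

theorem Img.commute_z {e f d : A} (he : e ∈ E) (h : Img D e f d) : Commute (e * f) d := by
  show e * f * d = d * (e * f)
  calc e * f * d = e * (f * d * f) * f := by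
        simp only [mul_assoc]; rw [sq hD h.fD, mul_one]
    _ = e * (e * d * e) * f := by rw [h.move]
    _ = d * (e * f) := by
        simp only [mul_assoc]; rw [← mul_assoc e e, sq hE he, one_mul]

theorem Img.e_fix {e f d : A} (he : e ∈ E) (h : Img D e f d) {m : M} (hm : (f * d) • m = m) :
    e • m = m := by
  have hE' : d * e * d ∈ E := by
    have := hE.grp.2.1 d e he
    rwa [inv' hD h.dD] at this
  have hprod : e * (d * e * d) = f * d * (f * d) := by
    rw [← mul_assoc, ← mul_assoc e d, h.move]; simp only [mul_assoc]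
  refine hE.tri e he _ hE' (fun hc => ?_) m ?_
  · have h2 : d * e * d * e = d * f * (d * f) := by
      rw [mul_assoc d e d, mul_assoc d (e * d) e, h.move]; simp only [mul_assoc]
    have h3 : f * d * (f * d) = d * f * (d * f) := by rw [← hprod, hc.eq, h2]
    have hcube := cube hD h.fD h.dD h.fd
    have h4 : d * f * (f * d) = 1 := by
      rw [mul_assoc d f, ← mul_assoc f f, sq hD h.fD, one_mul, sq hD h.dD]
    have h5 : f * d * (f * d) = d * f := by
      calc f * d * (f * d) = f * d * (f * d) * ((f * d) * (d * f)) := by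
            rw [mul_assoc f d (d * f), ← mul_assoc d d, sq hD h.dD, one_mul, sq hD h.fD, mul_one]
        _ = _ := by rw [← mul_assoc, hcube, one_mul]
    rw [h5] at h3
    have h6 : (1 : A) = d * f := by
      calc (1 : A) = f * d * (d * f) := by
            rw [mul_assoc f d (d * f), ← mul_assoc d d, sq hD h.dD, one_mul, sq hD h.fD]
        _ = f * d * (d * f * (d * f)) := by rw [← h3]
        _ = _ := by
            rw [← mul_assoc, mul_assoc f d (d * f), ← mul_assoc d d, sq hD h.dD, one_mul,
              sq hD h.fD, one_mul]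
    apply h.fd
    rw [show d = f by
      calc d = d * f * f := by rw [mul_assoc, sq hD h.fD, mul_one]
        _ = f := by rw [← h6, one_mul]]
  · rw [hprod, mul_smul, hm, hm]

include hM

theorem nrm_fix_all [Finite A] {e f d n : A} (he : e ∈ E) (h : Img D e f d) (hn : n ∈ D)
    (hen : Commute e n) : Commute f n := by
  by_contra hfn
  have hede : e * d * e ∈ D := by rw [h.move]; exact conj_mem hD h.fD h.dD
  have hee := sq hE he
  have ei := inv' hE he
  have hnd : ¬ Commute n d := by
    intro hc
    have h1 : Commute n (e * d * e) := (hen.symm.mul_right hc).mul_right hen.symm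
    apply hfn
    have h2 : f = d * (f * d * f) * d := by
      rw [braid' hD h.fD h.dD h.fd]
      simp only [← mul_assoc, sq hD h.dD, one_mul]
      rw [mul_assoc, sq hD h.dD, mul_one]
    rw [h.move] at h1
    rw [h2]
    exact ((hc.mul_right h1).mul_right hc).symm
  have hnf' : ¬ Commute n (f * d * f) := by
    intro hc
    apply hnd
    rw [← h.move] at hc
    have := (hen.symm.mul_right hc).mul_right hen.symm
    rwa [← mul_assoc, ← mul_assoc, hee, one_mul, mul_assoc, hee, mul_one] at this
  obtain ⟨x, hx⟩ : ∃ x, x = f * d := ⟨_, rfl⟩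
  obtain ⟨y, hy⟩ : ∃ y, y = f * n := ⟨_, rfl⟩
  obtain ⟨c, hc⟩ : ∃ c, c = x⁻¹ * y⁻¹ * x * y := ⟨_, rfl⟩
  obtain ⟨xc, yc, c3, -⟩ := triangle hD h.fD h.dD hn h.fd hfn (fun h' => hnd h'.symm)
    (fun h' => hnf' h'.symm) hx hy hc
  have x3 : x * x * x = 1 := hx ▸ cube hD h.fD h.dD h.fd
  have y3 : y * y * y = 1 := hy ▸ cube hD h.fD hn hfn
  have fi := inv' hD h.fD; have di := inv' hD h.dD
  have ff := sq hD h.fD
  -- the action of `e`
  have ex : e * x * e⁻¹ = x⁻¹ := by
    rw [ei, hx, mul_inv_rev, fi, di]
    calc e * (f * d) * e = f * (e * d * e) := by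
          rw [← mul_assoc e, h.ef.eq]; simp only [mul_assoc]
      _ = _ := by rw [h.move]; simp only [← mul_assoc, ff, one_mul]
  have ey : e * y * e⁻¹ = y := by
    rw [hy, (h.ef.mul_right hen).eq, mul_inv_cancel_right]
  have ec : e * c * e⁻¹ = c⁻¹ := by
    have h1 : MulAut.conj e c = x * y⁻¹ * x⁻¹ * y := by
      rw [hc]
      simp only [map_mul, map_inv, MulAut.conj_apply, ex, ey, inv_inv]
    have h2 : x * y⁻¹ * x⁻¹ * y = x * c⁻¹ * x⁻¹ := by rw [hc]; group
    rw [h2, (xc.inv_right).eq, mul_inv_cancel_right, MulAut.conj_apply] at h1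
    exact h1
  have xs : ∀ m : M, x • m = m → c • m = m := fun m hm =>
    fix_of_inverted hM (u := x) (y := c) (s := e) (fun m hm => h.e_fix hD hE he (by rwa [← hx]))
      xc.symm c3 (by rw [← ec, inv_mul_cancel_right]) hm
  have yxy : x * y = y * (x * c) := by rw [hc]; group
  have hxc : ∀ {u : A}, Commute u c → (∀ m : M, u • m = m → c • m = m) → u * y = y * (u * c) →
      ∀ m : M, (u * c) • m = m → c • m = m := by
    intro u _ hu he' m hm
    have h1 : u • (y • m) = y • m := by rw [← mul_smul, he', mul_smul, hm]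
    have h2 := hu _ h1
    rw [← mul_smul, ← yc.eq, mul_smul] at h2
    exact MulAction.injective y h2
  have xc1 := hxc xc xs yxy
  have xc2 := hxc (xc.mul_left (Commute.refl c)) xc1
    (by rw [mul_assoc x c y, ← yc.eq, ← mul_assoc, yxy, mul_assoc])
  -- the commutator acts trivially
  have hc1 : c = 1 := by
    have hu : ∀ {u : A}, Commute u c → u * u * u = 1 → (∀ m : M, u • m = m → c • m = m) →
        ∀ m : M, nrm c m = 0 → nrm u m = 0 := by
      intro u huc u3 hu m hm
      rw [← nrm_of_fix hM (hu _ (nrm_fix u3 m))]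
      calc nrm c (nrm u m) = nrm u (nrm c m) := by
            simp only [nrm, smul_add, ← mul_smul]
            rw [show c * u = u * c from huc.eq.symm, show c * (u * u) = u * u * c from
              (huc.mul_left huc).eq.symm, show c * c * u = u * (c * c) from
              (huc.mul_right huc).eq.symm, show c * c * (u * u) = u * u * (c * c) from
              ((huc.mul_left huc).mul_right (huc.mul_left huc)).eq.symm]
            abel
        _ = 0 := by rw [hm]; simp [nrm]
    have c33 : c * c * (c * c) = c := by rw [← mul_assoc, c3, one_mul]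
    have cube_mul : ∀ {u : A}, Commute u c → u * u * u = 1 → u * c * (u * c) * (u * c) = 1 := by
      intro u huc u3
      rw [huc.symm.mul_mul_mul_comm, (huc.mul_right huc).symm.mul_mul_mul_comm, u3, c3, one_mul]
    have h0 : ∀ m : M, nrm c m = 0 → m = 0 := by
      intro m hm
      have a0 := hu xc x3 xs m hm
      have a1 := hu (xc.mul_left (Commute.refl c)) (cube_mul xc x3) xc1 m hm
      have a2 := hu ((xc.mul_left (Commute.refl c)).mul_left (Commute.refl c))
        (cube_mul (xc.mul_left (Commute.refl c)) (cube_mul xc x3)) xc2 m hm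
      have s1 : x * c * (x * c) = x * x * (c * c) := xc.symm.mul_mul_mul_comm x c
      have s2 : x * c * c * (x * c * c) = x * x * c := by
        rw [mul_assoc x c c, (xc.mul_right xc).symm.mul_mul_mul_comm x (c * c), c33]
      calc m = (m + m + m) + (x • nrm c m + (x * x) • nrm c m) := by
            rw [hm, smul_zero, smul_zero, add_zero, add_zero, hM.two, zero_add]
        _ = nrm x m + nrm (x * c) m + nrm (x * c * c) m := by
            simp only [nrm, smul_add, ← mul_smul, s1, s2, ← mul_assoc x c c]; abel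
        _ = 0 := by rw [a0, a1, a2, add_zero, add_zero]
    refine hM.faith c fun m => ?_
    have hN := nrm_fix c3 m
    have := h0 (m + nrm c m) (by rw [nrm_add, nrm_of_fix hM hN, hM.two])
    rw [eq_neg_of_add_eq_zero_left this, smul_neg, hN]
  have hxy : Commute x y := by
    show x * y = y * x
    rw [yxy, hc1, mul_one]
  have fx : f * x = x⁻¹ * f := hx ▸ swap hD h.fD h.dD
  have fy : f * y = y⁻¹ * f := hy ▸ swap hD h.fD hn
  have gxf : f * d * f = x * f := by rw [hx]
  have gx : f * d * f * x = x⁻¹ * (f * d * f) := by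
    rw [gxf, mul_assoc, fx, ← mul_assoc, ← mul_assoc, mul_inv_cancel, inv_mul_cancel]
  have gy : f * d * f * y = y⁻¹ * (f * d * f) := by
    rw [gxf, mul_assoc, fy, ← mul_assoc, hxy.inv_right.eq, mul_assoc]
  have fixF : ∀ m : M, x • m = m → f • m = m := fun m hm =>
    hD.tri f h.fD d h.dD h.fd m (by rwa [← hx])
  have fixY : ∀ m : M, y • m = m → f • m = m := fun m hm =>
    hD.tri f h.fD n hn hfn m (by rwa [← hy])
  have fixP : ∀ m : M, (x * y) • m = m → (f * d * f) • m = m := fun m hm =>
    hD.tri _ (conj_mem hD h.fD h.dD) n hn (fun h' => hnf' h'.symm) m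
      (by rwa [show f * d * f * n = x * y by rw [hx, hy]; simp only [mul_assoc]])
  have fixQ : ∀ m : M, (x * y⁻¹) • m = m → (f * d * f) • m = m := by
    intro m hm
    rw [hx, hy, mul_inv_rev, inv' hD hn, fi] at hm
    have hm' : (d * n) • (f • m) = f • m := by
      nth_rewrite 2 [← hm]
      simp only [← mul_smul, ← mul_assoc, ff, one_mul]
    rw [mul_smul, mul_smul, hD.tri d h.dD n hn (fun h' => hnd h'.symm) _ hm',
      smul_smul_self hD h.fD]
  have all : ∀ u : A, u = x ∨ u = y ∨ u = x * y ∨ u = x * y⁻¹ →
      ∀ m : M, u • m = m → x • m = m ∧ y • m = m := by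
    rintro u (rfl | rfl | rfl | rfl) m hm
    · exact ⟨hm, fix_of_inverted hM fixF hxy.symm y3 fy hm⟩
    · exact ⟨fix_of_inverted hM fixY hxy x3 fx hm, hm⟩
    · exact ⟨fix_of_inverted hM fixP ((Commute.refl x).mul_right hxy) x3 gx hm,
        fix_of_inverted hM fixP (hxy.symm.mul_right (Commute.refl y)) y3 gy hm⟩
    · exact ⟨fix_of_inverted hM fixQ ((Commute.refl x).mul_right hxy.inv_right) x3 gx hm,
        fix_of_inverted hM fixQ (hxy.symm.mul_right (Commute.refl y).inv_right) y3 gy hm⟩
  have eqN : ∀ u : A, (u = x ∨ u = y ∨ u = x * y ∨ u = x * y⁻¹) → Commute u y → u * u * u = 1 →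
      ∀ m : M, nrm u m = nrm y m := by
    intro u hu huy u3 m
    have hf := all u hu _ (nrm_fix u3 m)
    rw [← nrm_of_fix hM hf.2]
    obtain ⟨hx', hy'⟩ := all y (Or.inr (Or.inl rfl)) _ (nrm_fix y3 m)
    have hu' : u • nrm y m = nrm y m := by
      have hyi : y⁻¹ • nrm y m = nrm y m := by rw [inv_smul_eq_iff, hy']
      rcases hu with rfl | rfl | rfl | rfl
      · exact hx'
      · exact hy'
      · rw [mul_smul, hy', hx']
      · rw [mul_smul, hyi, hx']
    conv_rhs => rw [← nrm_of_fix hM hu']
    simp only [nrm, smul_add, ← mul_smul]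
    rw [show y * u = u * y from huy.eq.symm, show y * (u * u) = u * u * y from
      (huy.mul_left huy).eq.symm, show y * y * u = u * (y * y) from
      (huy.mul_right huy).eq.symm, show y * y * (u * u) = u * u * (y * y) from
      ((huy.mul_left huy).mul_right (huy.mul_left huy)).eq.symm]
    abel
  have yi : y⁻¹ = y * y := inv_eq_of_mul_eq_one_right (by rw [← mul_assoc, y3])
  have y33 : y * y * (y * y) = y := by rw [← mul_assoc, y3, one_mul]
  have p3' : x * y * (x * y) * (x * y) = 1 := by
    rw [hxy.symm.mul_mul_mul_comm, (hxy.mul_right hxy).symm.mul_mul_mul_comm, x3, y3, one_mul]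
  have q3' : x * (y * y) * (x * (y * y)) * (x * (y * y)) = 1 := by
    rw [(hxy.mul_right hxy).symm.mul_mul_mul_comm,
      ((hxy.mul_right hxy).mul_right (hxy.mul_right hxy)).symm.mul_mul_mul_comm, x3, y33,
      one_mul, ← mul_assoc, y3]
  refine h.fd ?_
  have hx1 : x = 1 := by
    refine hM.faith x fun m => ?_
    have k1 := eqN x (Or.inl rfl) hxy x3 m
    have k3 := eqN (x * y) (Or.inr (Or.inr (Or.inl rfl))) (hxy.mul_left (Commute.refl y)) p3' m
    have k4 := eqN (x * y⁻¹) (Or.inr (Or.inr (Or.inr rfl)))
      (hxy.mul_left (Commute.refl y).inv_left) (by rw [yi]; exact q3') m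
    rw [yi] at k4
    have hfour : nrm x (nrm y m) + m = 0 := by
      calc nrm x (nrm y m) + m
          = nrm x (nrm y m) + m + ((m + m) + (m + m)) := by rw [hM.two m, add_zero, add_zero]
        _ = (nrm x m + nrm y m + nrm (x * y) m + nrm (x * (y * y)) m) + (m + m) := by
            simp only [nrm, smul_add, ← mul_smul]
            rw [hxy.symm.mul_mul_mul_comm x y, (hxy.mul_right hxy).symm.mul_mul_mul_comm x (y * y),
              y33]
            abel
        _ = 0 := by
            rw [k1, k3, k4, hM.two m, add_zero, hM.two, zero_add, hM.two]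
    rw [eq_neg_of_add_eq_zero_right hfour, smul_neg, nrm_fix x3]
  rw [hx] at hx1
  rw [eq_inv_of_mul_eq_one_right hx1, fi]

theorem eU [Finite A] {e f d : A} (he : e ∈ E) (h : Img D e f d) {m : M} (hm : f • m = m) :
    ∃ n : M, e • m + m = f • n + n := by
  refine ⟨e • ((f * d) • m) + (f * d) • m, ?_⟩
  have hN := h.e_fix hD hE he (nrm_fix (cube hD h.fD h.dD h.fd) m)
  have hdec := decomp hM hD h.fD h.dD h.fd hm
  calc e • m + m = e • (nrm (f * d) m + m) + (nrm (f * d) m + m) := by
        rw [smul_add, hN]
        calc e • m + m = (nrm (f * d) m + nrm (f * d) m) + (e • m + m) := by rw [hM.two, zero_add]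
          _ = _ := by abel
    _ = _ := by
        rw [← hdec, smul_add, smul_add, ← mul_smul e f, h.ef.eq, mul_smul]; abel

theorem eq_of_two [Finite A] {e f d f' d' : A} (he : e ∈ E) (h : Img D e f d)
    (h' : Img D e f' d') (hne : f ≠ f') : e = f := by
  have hff' : Commute f f' := nrm_fix_all hM hD hE he h h'.fD h'.ef
  have hU : ∀ m : M, e • (f • m + m) = f • m + m := by
    intro m
    obtain ⟨n, hn⟩ := eU hM hD hE he h' (hD.comm f h.fD f' h'.fD hff' m)
    have h1 : e • (f • m + m) + (f • m + m) = f • (e • m + m) + (e • m + m) := by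
      rw [smul_add, smul_add, ← mul_smul e f, h.ef.eq, mul_smul]; abel
    have h0 := U_inter hM hD h.fD h'.fD hff' hne (h1.symm.trans hn)
    rw [← h1] at h0
    rw [eq_neg_of_add_eq_zero_left h0, neg_eq_of_add_eq_zero_left (hM.two _)]
  have hC : ∀ m : M, f • m = m → e • m = m := by
    intro m hm
    have hN := h.e_fix hD hE he (nrm_fix (cube hD h.fD h.dD h.fd) m)
    have hdec := decomp hM hD h.fD h.dD h.fd hm
    have h1 := hU ((f * d) • m)
    rw [hdec, smul_add, hN] at h1
    exact add_left_cancel h1
  have hz : e * f = 1 := eq_one_of_fix hM hD h.fD h.dD h.fd (h.ef.mul_left (Commute.refl f))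
    (h.commute_z hD hE he) fun m hm => by rw [mul_smul, hm, hC m hm]
  rw [mul_eq_one_iff_eq_inv, inv' hD h.fD] at hz
  exact hz

/-- A member of a second generating set lies in the first. -/
theorem mem_of_mem [Finite A] {e : A} (he : e ∈ E) : e ∈ D := by
  have hee := sq hE he
  have ei := inv' hE he
  have img : ∀ d ∈ D, ¬ Commute e d → ∃ f, Img D e f d := by
    intro d hd hc
    obtain ⟨d', hd'⟩ : ∃ d', d' = e * d * e := ⟨_, rfl⟩
    have hd'D : d' ∈ D := by
      rw [hd']
      have := hD.grp.2.1 e d hd
      rwa [ei] at this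
    have hne : d' ≠ d := fun h => hc (by
      show e * d = d * e
      calc e * d = e * d * e * e := by rw [mul_assoc, hee, mul_one]
        _ = _ := by rw [← hd', h])
    have hn : ¬ Commute d d' := fun h => hne (hd'.trans (no_commuting_image hM hD hE he hd (hd' ▸ h)))
    have hb := braid' hD hd hd'D hn
    have dd := sq hD hd; have dd' := sq hD hd'D
    have hfe : e * (d * d' * d) = d * d' * d * e := by
      have h1 : e * (d * d' * d) = d' * d * d' * e := by
        calc e * (d * d' * d) = (e * d * e) * (e * d' * e) * (e * d * e) * e := by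
              simp only [mul_assoc]
              simp only [← mul_assoc e e, hee, one_mul, mul_one]
          _ = _ := by
              rw [← hd', show e * d' * e = d by
                rw [hd', ← mul_assoc, ← mul_assoc, hee, one_mul, mul_assoc, hee, mul_one]]
      rw [h1, ← hb]
    refine ⟨d * d' * d, ⟨conj_mem hD hd hd'D, hd, hfe, fun h => ?_, ?_⟩⟩
    · have h' : d * d' * d * d = d * (d * d' * d) := h.eq
      rw [mul_assoc, dd, mul_one, ← mul_assoc, ← mul_assoc, dd, one_mul] at h'
      exact hn h'
    · rw [← hd']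
      calc d' = d * (d * d' * d) * d := by
            simp only [← mul_assoc, dd, one_mul]; rw [mul_assoc, dd, mul_one]
        _ = d * (d' * d * d') * d := by rw [hb]
        _ = _ := by simp only [mul_assoc]; rw [← mul_assoc d d, dd, one_mul]
  have hcent : ∀ z : A, (∀ d ∈ D, Commute z d) → z * z = 1 → z = 1 := by
    intro z hz hz2
    by_contra hz1
    have hzc : z ∈ Subgroup.center A := by
      have h2 : Subgroup.closure D ≤ Subgroup.centralizer ({z} : Set A) := by
        rw [Subgroup.closure_le]
        exact fun d hd => Subgroup.mem_centralizer_singleton_iff.2 (hz d hd).symm.eq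
      rw [hD.grp.2.2] at h2
      rw [Subgroup.mem_center_iff]
      exact fun g => Subgroup.mem_centralizer_singleton_iff.1 (h2 (Subgroup.mem_top g))
    haveI : (Subgroup.zpowers z).Normal := ⟨fun n hn g => by
      obtain ⟨k, rfl⟩ := Subgroup.mem_zpowers_iff.1 hn
      rw [Subgroup.mem_center_iff.1 (Subgroup.zpow_mem _ hzc k) g, mul_inv_cancel_right]
      exact Subgroup.mem_zpowers_iff.2 ⟨k, rfl⟩⟩
    have ho : orderOf z = 2 := orderOf_eq_prime (by rw [pow_two, hz2]) hz1
    have hp : IsPGroup 2 (Subgroup.zpowers z) :=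
      IsPGroup.of_card (n := 1) (by rw [Nat.card_zpowers, ho, pow_one])
    have h3 := Solvable.Cores.le_pCore hp (Subgroup.mem_zpowers z)
    rw [hM.core, Subgroup.mem_bot] at h3
    exact hz1 h3
  by_cases hall : ∀ d ∈ D, Commute e d
  · exact absurd (hcent e hall hee) (ne_one (hE.grp.1.1 e he))
  push Not at hall
  obtain ⟨d₀, hd₀, hm₀⟩ := hall
  obtain ⟨f, hf⟩ := img d₀ hd₀ hm₀
  by_cases h2 : ∃ f' d', Img D e f' d' ∧ f' ≠ f
  · obtain ⟨f', d', h', hne⟩ := h2
    rw [eq_of_two hM hD hE he hf h' (Ne.symm hne)]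
    exact hf.fD
  push Not at h2
  have hz : e * f = 1 := by
    refine hcent _ (fun d hd => ?_) ?_
    · by_cases hc : Commute e d
      · exact hc.mul_left (nrm_fix_all hM hD hE he hf hd hc)
      · obtain ⟨f', hf'⟩ := img d hd hc
        have := hf'.commute_z hD hE he
        rwa [h2 f' d hf'] at this
    · rw [hf.ef.symm.mul_mul_mul_comm, hee, sq hD hf.fD, one_mul]
  rw [mul_eq_one_iff_eq_inv, inv' hD hf.fD] at hz
  rw [hz]; exact hf.fD

end

end CfsgLib.ThreeTransp.UniqueClass
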